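import Cfsg.Agent.H710.VanCount
import Cfsg.Agent.CharactersDeep.ModCongr
import Cfsg.Agent.Blocks.ExistsModular
import Cfsg.Agent.H419.Count_m3
import Mathlib
import Cfsg.Agent.H863.BFin
import Cfsg.Agent.MonsterX.VecRel
import Cfsg.Agent.Monster.VecFast
import Cfsg.Agent.H710.Spor.HNMix
import Cfsg.Agent.FastGrp
import Cfsg.Agent.Prune
set_option linter.all false

section
prune_inst 0x7f00000000000000000000000000000000000000000000000000000000000000000000000000000000000000000000000000000000000000000000000000000000000000000000000000000000000000003fdff77fffffffffffffffffffffbeffbdebfeffff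

-- part: H546/VO/Halve
section
set_option linter.all false
open scoped Cfsg.Agent.FastGrp

/-!
# Vanishing at an element of order 40 (helper546)

`w` of order 40 with `C(w) = ⟨w⟩`, `w' = w ^ 21` (`= w t`, `t` the involution of `⟨w⟩`) not conjugate to `w`, all
generators of `⟨w⟩` conjugate to `w` or `w'`, the elements `w ^ 25`, `w ^ 5` of order 8 conjugate.  Then
`s = (χ(w) + χ(w')) / 2` is an integer, `d ^ 2 = ((χ(w) - χ(w')) / 2) ^ 2` is an integer divisible by 5, and the sum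
of `|s| ^ 2` (of `|d| ^ 2`) over the irreducible characters is 20: at most 24 of them do not vanish at `w`.
-/

set_option autoImplicit false

open scoped ComplexConjugate

namespace Cfsg.Agent.H546.VO

open Cfsg Cfsg.Agent.Characters.Core Cfsg.Agent.Characters.GaloisBasic
open Cfsg.Agent.OddOrderCharacters.PF13.SumBound Cfsg.Agent.CharactersDeep.ModCongr

variable {G : Type*} [Group G]

theorem sq_one {a : ℂ} (h : a ^ 2 = 1) : a = 1 ∨ a = -1 := by
  have h1 : (a - 1) * (a + 1) = 0 := by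
    have h2 : (a - 1) * (a + 1) = a ^ 2 - 1 := by ring
    rw [h2, h, sub_self]
  rcases mul_eq_zero.1 h1 with h2 | h2
  · left; exact sub_eq_zero.1 h2
  · right; exact eq_neg_of_add_eq_zero_left h2

/-- half sums and half differences of the values at `w`, `w ^ 21` are algebraic integers -/
theorem integral_half {χ : G → ℂ} (hχ : IsCharacter G χ) {w : G} (hw : w ^ 40 = 1) (e : ℂ) (he : e = 1 ∨ e = -1) :
    IsIntegral ℤ ((χ w + e * χ (w ^ 21)) / 2) := by
  obtain ⟨d, μ, -, h1, h2⟩ := isCharacter_exists_fin_pow hχ w (by norm_num : (40 : ℕ) ≠ 0) hw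
  have h3 : (χ w + e * χ (w ^ 21)) / 2 = ∑ i, μ i * ((1 + e * μ i ^ 20) / 2) := by
    have h4 := h2 1
    rw [pow_one] at h4
    rw [h4, h2 21, Finset.mul_sum, ← Finset.sum_add_distrib, Finset.sum_div]
    refine Finset.sum_congr rfl fun i _ => ?_
    ring
  rw [h3]
  refine IsIntegral.sum _ fun i _ => ?_
  have h5 : (μ i ^ 20) ^ 2 = 1 := by rw [← pow_mul]; exact h1 i
  have h6 : IsIntegral ℤ (μ i) := by
    refine IsIntegral.of_pow (by norm_num : 0 < 40) ?_
    rw [h1 i]
    exact isIntegral_one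
  rcases sq_one h5 with h | h
  all_goals rcases he with rfl | rfl
  all_goals rw [h]
  all_goals norm_num
  all_goals first | exact h6 | exact isIntegral_zero

/-- the half sum is an integer -/
theorem exists_int_half [Finite G] {χ : G → ℂ} (hχ : IsCharacter G χ) {w : G} (hw : w ^ 40 = 1)
    (hcl : IsClassFunction G χ) (h2 : ∀ m : ℕ, m.Coprime 40 → IsConj w (w ^ m) ∨ IsConj (w ^ 21) (w ^ m))
    (h40 : 40 ∣ Nat.card G) :
    (∃ a : ℤ, (χ w + χ (w ^ 21)) / 2 = a) ∧ ∃ e : ℤ, ((χ w - χ (w ^ 21)) / 2) ^ 2 = e := by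
  have hcj : ∀ x y : G, IsConj x y → χ x = χ y := by
    intro x y h
    obtain ⟨c, rfl⟩ := isConj_iff.1 h
    exact (hcl x c).symm
  have key : ∀ σ : ℂ ≃+* ℂ, (σ (χ w) = χ w ∧ σ (χ (w ^ 21)) = χ (w ^ 21)) ∨
      (σ (χ w) = χ (w ^ 21) ∧ σ (χ (w ^ 21)) = χ w) := by
    intro σ
    obtain ⟨m, hm, hσ⟩ := exists_pow_of_ringEquiv (G := G) σ
    have hm40 : m.Coprime 40 := hm.coprime_dvd_right h40
    have hcomm : (w ^ 21) ^ m = (w ^ m) ^ 21 := by rw [← pow_mul, ← pow_mul, mul_comm]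
    have hback : (w ^ 21) ^ 21 = w := by
      rw [← pow_mul, show 21 * 21 = 40 * 11 + 1 from rfl, pow_succ, pow_mul, hw, one_pow, one_mul]
    rcases h2 m hm40 with h | h
    · left
      refine ⟨by rw [hσ χ hχ, ← hcj _ _ h], ?_⟩
      rw [hσ χ hχ, hcomm]
      obtain ⟨c, hc⟩ := isConj_iff.1 h
      exact (hcj _ _ (isConj_iff.2 ⟨c, by rw [← hc, conj_pow]⟩)).symm
    · right
      refine ⟨by rw [hσ χ hχ, ← hcj _ _ h], ?_⟩
      rw [hσ χ hχ, hcomm]
      obtain ⟨c, hc⟩ := isConj_iff.1 h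
      refine (hcj _ _ (isConj_iff.2 ⟨c, ?_⟩)).symm
      rw [← hc, conj_pow, hback]
  constructor
  · refine exists_int_of_isIntegral ?_ (exists_rat_of_forall_ringEquiv ?_ ?_)
    · simpa using integral_half hχ hw 1 (Or.inl rfl)
    · have h := integral_half hχ hw 1 (Or.inl rfl)
      rw [one_mul] at h
      exact h.tower_top
    · intro σ
      rw [map_div₀, map_add, map_ofNat]
      rcases key σ with ⟨h, h'⟩ | ⟨h, h'⟩
      · rw [h, h']
      · rw [h, h', add_comm]
  · have h := integral_half hχ hw (-1) (Or.inr rfl)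
    rw [neg_one_mul, ← sub_eq_add_neg] at h
    refine exists_int_of_isIntegral (h.pow 2) (exists_rat_of_forall_ringEquiv (h.pow 2).tower_top ?_)
    intro σ
    rw [map_pow, map_div₀, map_sub, map_ofNat]
    rcases key σ with ⟨h, h'⟩ | ⟨h, h'⟩
    · rw [h, h']
    · rw [h, h']
      ring

/-- `5 ∣ d ^ 2` -/
theorem five_dvd [Finite G] {χ : G → ℂ} (hχ : IsIrrCharacter G χ) {w : G} (hw : orderOf w = 40)
    (h3 : IsConj (w ^ 25) (w ^ 5)) {e : ℤ} (he : ((χ w - χ (w ^ 21)) / 2) ^ 2 = e) : 5 ∣ e := by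
  obtain ⟨M, hM⟩ := Cfsg.Agent.Blocks.ExistsModular.exists_isPModular Nat.prime_five
  have hp : M.IsPrime := hM.2.1.isPrime
  have hw1 : w ^ 40 = 1 := by rw [← hw, pow_orderOf_eq_one]
  have hcl := isIrr_isClassFunction hχ
  have hord : ∀ k : ℕ, orderOf (w ^ (16 * k)) ∣ 5 := by
    intro k
    apply orderOf_dvd_of_pow_eq_one
    rw [← pow_mul, show 16 * k * 5 = 40 * (2 * k) by ring, pow_mul, hw1, one_pow]
  have hord' : ∀ k : ℕ, ¬ 5 ∣ orderOf (w ^ (5 * k)) := by
    intro k h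
    have h1 : orderOf (w ^ (5 * k)) ∣ 8 := by
      apply orderOf_dvd_of_pow_eq_one
      rw [← pow_mul, show 5 * k * 8 = 40 * k by ring, pow_mul, hw1, one_pow]
    exact absurd (h.trans h1) (by norm_num)
  have h1 : MemLocalIdeal M (χ w - χ (w ^ 25)) := by
    have h := memLocalIdeal_character_sub hM hχ w (w ^ 16) ⟨w ^ 25, ?_, ?_, ?_, ?_⟩
    · have e1 : (w ^ 16)⁻¹ * w = w ^ 25 := by
        rw [inv_mul_eq_iff_eq_mul, ← pow_add, show 16 + 25 = 40 + 1 from rfl, pow_add, hw1, one_mul, pow_one]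
      rwa [e1] at h
    · rw [← pow_add, show 16 + 25 = 40 + 1 from rfl, pow_add, hw1, one_mul, pow_one]
    · exact (Commute.refl w).pow_pow _ _
    · rcases (Nat.dvd_prime Nat.prime_five).1 (hord 1) with h | h
      · exact ⟨0, by simpa using h⟩
      · exact ⟨1, by simpa using h⟩
    · exact hord' 5
  have h2 : MemLocalIdeal M (χ (w ^ 21) - χ (w ^ 5)) := by
    have h := memLocalIdeal_character_sub hM hχ (w ^ 21) (w ^ 16) ⟨w ^ 5, ?_, ?_, ?_, ?_⟩
    · have e1 : (w ^ 16)⁻¹ * w ^ 21 = w ^ 5 := by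
        rw [inv_mul_eq_iff_eq_mul, ← pow_add]
      rwa [e1] at h
    · rw [← pow_add]
    · exact (Commute.refl w).pow_pow _ _
    · rcases (Nat.dvd_prime Nat.prime_five).1 (hord 1) with h | h
      · exact ⟨0, by simpa using h⟩
      · exact ⟨1, by simpa using h⟩
    · exact hord' 1
  have h4 : χ (w ^ 25) = χ (w ^ 5) := by
    obtain ⟨c, hc⟩ := isConj_iff.1 h3
    rw [← hc]
    exact (hcl _ c).symm
  -- algebraic integers
  let x : AlgInt := ⟨χ w, isIntegral_irr hχ w⟩
  let x' : AlgInt := ⟨χ (w ^ 21), isIntegral_irr hχ _⟩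
  let y : AlgInt := ⟨χ (w ^ 25), isIntegral_irr hχ _⟩
  let y' : AlgInt := ⟨χ (w ^ 5), isIntegral_irr hχ _⟩
  have m1 : x - y ∈ M := (memLocalIdeal_coe_iff hp _).1 h1
  have m2 : x' - y' ∈ M := (memLocalIdeal_coe_iff hp _).1 h2
  have hy : y = y' := Subtype.ext h4
  have m3 : x - x' ∈ M := by
    have : x - x' = (x - y) - (x' - y') := by rw [hy]; ring
    rw [this]
    exact M.sub_mem m1 m2
  have m4 : (x - x') ^ 2 ∈ M := by
    rw [pow_two]
    exact M.mul_mem_left _ m3
  have h5 : (x - x') ^ 2 = ((4 * e : ℤ) : AlgInt) := by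
    apply Subtype.ext
    have h6 : (χ w - χ (w ^ 21)) ^ 2 = 4 * (e : ℂ) := by
      rw [← he]; ring
    push_cast
    exact h6
  rw [h5] at m4
  obtain ⟨n, hn⟩ : ∃ n : ℕ, 4 * e = n ∨ 4 * e = -n := ⟨_, Int.natAbs_eq _⟩
  have h6 : (n : AlgInt) ∈ M := by
    rcases hn with h | h
    · have h7 : (n : AlgInt) = ((4 * e : ℤ) : AlgInt) := by
        rw [h, Int.cast_natCast]
      rwa [h7]
    · have h7 : (n : AlgInt) = -((4 * e : ℤ) : AlgInt) := by
        rw [h, Int.cast_neg, Int.cast_natCast, neg_neg]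
      rw [h7]
      exact M.neg_mem m4
  have h7 : 5 ∣ n := (natCast_mem_iff hM _).1 h6
  omega

/-- The orders of the centralizers of `w`, `w ^ 21`. -/
theorem cent_eq {w : G} (hw : w ^ 40 = 1) :
    Subgroup.centralizer ({w ^ 21} : Set G) = Subgroup.centralizer ({w} : Set G) := by
  have hback : (w ^ 21) ^ 21 = w := by
    rw [← pow_mul, show 21 * 21 = 40 * 11 + 1 from rfl, pow_succ, pow_mul, hw, one_pow, one_mul]
  ext g
  rw [Subgroup.mem_centralizer_singleton_iff, Subgroup.mem_centralizer_singleton_iff]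
  constructor
  · intro h
    have h1 : Commute g ((w ^ 21) ^ 21) := Commute.pow_right (show Commute g (w ^ 21) from h) 21
    rw [hback] at h1
    exact h1
  · intro h
    exact Commute.pow_right (show Commute g w from h) 21

/-- **Vanishing at an element of order 40.** -/
theorem exists_zero [Finite G] {w : G} (hw : orderOf w = 40)
    (hc : Nat.card (Subgroup.centralizer ({w} : Set G)) ≤ 40) (h1 : ¬ IsConj w (w ^ 21))
    (h2 : ∀ m : ℕ, m.Coprime 40 → IsConj w (w ^ m) ∨ IsConj (w ^ 21) (w ^ m))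
    (h3 : IsConj (w ^ 25) (w ^ 5)) (hk : 25 ≤ Nat.card (ConjClasses G)) :
    ∃ χ : IrrCharacter G, (χ : G → ℂ) w = 0 := by
  classical
  by_contra hcon
  push Not at hcon
  have := Fintype.ofFinite G
  have := finite_irr (G := G)
  have := Fintype.ofFinite (IrrCharacter G)
  have hw1 : w ^ 40 = 1 := by rw [← hw, pow_orderOf_eq_one]
  have h40 : 40 ∣ Nat.card G := hw ▸ orderOf_dvd_natCard w
  have hint : ∀ χ : IrrCharacter G, ∃ a e : ℤ, ((χ : G → ℂ) w + (χ : G → ℂ) (w ^ 21)) / 2 = a ∧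
      (((χ : G → ℂ) w - (χ : G → ℂ) (w ^ 21)) / 2) ^ 2 = e := by
    intro χ
    obtain ⟨⟨a, ha⟩, e, he⟩ := exists_int_half (isIrr_isCharacter χ.2) hw1 (isIrr_isClassFunction χ.2) h2 h40
    exact ⟨a, e, ha, he⟩
  choose a e ha he using hint
  have hS : ∀ χ : IrrCharacter G, ‖((χ : G → ℂ) w + (χ : G → ℂ) (w ^ 21)) / 2‖ ^ 2 = (a χ : ℝ) ^ 2 := by
    intro χ
    rw [ha, Complex.norm_intCast, sq_abs]
  have hD : ∀ χ : IrrCharacter G, ‖((χ : G → ℂ) w - (χ : G → ℂ) (w ^ 21)) / 2‖ ^ 2 = |(e χ : ℝ)| := by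
    intro χ
    rw [← norm_pow, he, Complex.norm_intCast]
  -- one is a lower bound
  have key : ∀ χ : IrrCharacter G, (1 : ℝ) ≤
      ‖((χ : G → ℂ) w + (χ : G → ℂ) (w ^ 21)) / 2‖ ^ 2 +
      ‖((χ : G → ℂ) w - (χ : G → ℂ) (w ^ 21)) / 2‖ ^ 2 / 5 := by
    intro χ
    rw [hS, hD]
    by_cases ha0 : a χ = 0
    · have he0 : e χ ≠ 0 := by
        intro he0
        have e1 := ha χ
        have e2 := he χ
        rw [ha0, Int.cast_zero] at e1
        rw [he0, Int.cast_zero] at e2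
        have e3 : ((χ : G → ℂ) w - (χ : G → ℂ) (w ^ 21)) / 2 = 0 := by
          exact pow_eq_zero_iff (two_ne_zero) |>.1 e2
        apply hcon χ
        have e4 : (χ : G → ℂ) w = ((χ : G → ℂ) w + (χ : G → ℂ) (w ^ 21)) / 2 +
          ((χ : G → ℂ) w - (χ : G → ℂ) (w ^ 21)) / 2 := by ring
        rw [e4, e1, e3, add_zero]
      obtain ⟨c, hc⟩ := five_dvd χ.2 hw h3 (he χ)
      have hc0 : c ≠ 0 := by
        rintro rfl
        exact he0 (by rw [hc, mul_zero])
      have h5 : (1 : ℤ) ≤ |c| := Int.one_le_abs hc0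
      have h6 : (1 : ℝ) ≤ |(c : ℝ)| := by exact_mod_cast h5
      rw [hc]
      push_cast
      rw [abs_mul, abs_of_pos (by norm_num : (0 : ℝ) < 5)]
      nlinarith [sq_nonneg ((a χ : ℝ))]
    · have h5 : (1 : ℤ) ≤ (a χ) ^ 2 := by
        have := sq_pos_of_ne_zero ha0 (R := ℤ)
        omega
      have h6 : (1 : ℝ) ≤ (a χ : ℝ) ^ 2 := by exact_mod_cast h5
      have h7 := abs_nonneg (e χ : ℝ)
      linarith
  -- the sums
  have horth : ∑ χ : IrrCharacter G, (χ : G → ℂ) w * conj ((χ : G → ℂ) (w ^ 21)) = 0 := by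
    have h := (Cfsg.Agent.S0145.result w (w ^ 21)).2 h1
    rwa [finsum_eq_sum_of_fintype] at h
  have hre : ∑ χ : IrrCharacter G, ((χ : G → ℂ) w * conj ((χ : G → ℂ) (w ^ 21))).re = 0 := by
    rw [← Complex.re_sum, horth, Complex.zero_re]
  have n1 := Cfsg.Agent.SmallSimple.SelfCentSum.sum_norm_sq w
  have n2 := Cfsg.Agent.SmallSimple.SelfCentSum.sum_norm_sq (w ^ 21)
  rw [cent_eq hw1] at n2
  have hadd : ∀ χ : IrrCharacter G, ‖((χ : G → ℂ) w + (χ : G → ℂ) (w ^ 21)) / 2‖ ^ 2 =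
      (‖(χ : G → ℂ) w‖ ^ 2 + ‖(χ : G → ℂ) (w ^ 21)‖ ^ 2) / 4 +
        ((χ : G → ℂ) w * conj ((χ : G → ℂ) (w ^ 21))).re / 2 := by
    intro χ
    rw [norm_div, div_pow]
    simp only [Complex.sq_norm]
    rw [Complex.normSq_add]
    norm_num
    ring
  have hsub : ∀ χ : IrrCharacter G, ‖((χ : G → ℂ) w - (χ : G → ℂ) (w ^ 21)) / 2‖ ^ 2 =
      (‖(χ : G → ℂ) w‖ ^ 2 + ‖(χ : G → ℂ) (w ^ 21)‖ ^ 2) / 4 -
        ((χ : G → ℂ) w * conj ((χ : G → ℂ) (w ^ 21))).re / 2 := by
    intro χ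
    rw [norm_div, div_pow]
    simp only [Complex.sq_norm]
    rw [Complex.normSq_sub]
    norm_num
    ring
  have hsum1 : ∑ χ : IrrCharacter G, ‖((χ : G → ℂ) w + (χ : G → ℂ) (w ^ 21)) / 2‖ ^ 2 =
      (Nat.card (Subgroup.centralizer ({w} : Set G)) : ℝ) / 2 := by
    rw [Finset.sum_congr rfl fun χ _ => hadd χ, Finset.sum_add_distrib, ← Finset.sum_div, ← Finset.sum_div,
      Finset.sum_add_distrib, hre, n1, n2]
    ring
  have hsum2 : ∑ χ : IrrCharacter G, ‖((χ : G → ℂ) w - (χ : G → ℂ) (w ^ 21)) / 2‖ ^ 2 =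
      (Nat.card (Subgroup.centralizer ({w} : Set G)) : ℝ) / 2 := by
    rw [Finset.sum_congr rfl fun χ _ => hsub χ, Finset.sum_sub_distrib, ← Finset.sum_div, ← Finset.sum_div,
      Finset.sum_add_distrib, hre, n1, n2]
    ring
  have hfin : (Nat.card (ConjClasses G) : ℝ) ≤
      (Nat.card (Subgroup.centralizer ({w} : Set G)) : ℝ) / 2 +
      (Nat.card (Subgroup.centralizer ({w} : Set G)) : ℝ) / 2 / 5 := by
    have h5 : ∑ χ : IrrCharacter G, (1 : ℝ) ≤ ∑ χ : IrrCharacter G,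
        (‖((χ : G → ℂ) w + (χ : G → ℂ) (w ^ 21)) / 2‖ ^ 2 +
        ‖((χ : G → ℂ) w - (χ : G → ℂ) (w ^ 21)) / 2‖ ^ 2 / 5) := Finset.sum_le_sum fun χ _ => key χ
    rw [Finset.sum_add_distrib, ← Finset.sum_div, hsum1, hsum2, Finset.sum_const, nsmul_eq_mul, mul_one,
      Finset.card_univ, ← Nat.card_eq_fintype_card, card_irr] at h5
    exact h5
  have hc' : (Nat.card (Subgroup.centralizer ({w} : Set G)) : ℝ) ≤ 40 := by exact_mod_cast hc
  have hk' : (25 : ℝ) ≤ Nat.card (ConjClasses G) := by exact_mod_cast hk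
  linarith

end Cfsg.Agent.H546.VO
end

-- part: H546/VO/Vz
section
set_option linter.all false
open scoped Cfsg.Agent.FastGrp

/-!
# Vanishing at the elements of order 40, all images under automorphisms (helper546)
-/

set_option autoImplicit false

namespace Cfsg.Agent.H546.VO

open Cfsg Cfsg.Agent.Characters.Core

variable {G : Type*} [Group G]

/-- `VZ` for `w` and `w ^ 21`. -/
theorem vz_forty [Finite G] {w : G} (hw : orderOf w = 40)
    (hc : Nat.card (Subgroup.centralizer ({w} : Set G)) ≤ 40) (h1 : ¬ IsConj w (w ^ 21))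
    (h2 : ∀ m : ℕ, m.Coprime 40 → IsConj w (w ^ m) ∨ IsConj (w ^ 21) (w ^ m))
    (h3 : IsConj (w ^ 25) (w ^ 5)) (hk : 25 ≤ Nat.card (ConjClasses G))
    (hA : ∀ α : MulAut G, IsConj w (α w) ∨ IsConj (w ^ 21) (α w)) :
    H713.VZ G w ∧ H713.VZ G (w ^ 21) := by
  obtain ⟨χ, hχ⟩ := exists_zero hw hc h1 h2 h3 hk
  have hcj : ∀ x y : G, IsConj x y → (χ : G → ℂ) x = (χ : G → ℂ) y := by
    intro x y h
    obtain ⟨c, rfl⟩ := isConj_iff.1 h
    exact (isIrr_isClassFunction χ.2 x c).symm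
  have hχ' : (χ : G → ℂ) (w ^ 21) = 0 := Cfsg.Agent.H710.VanCount.zero_pow χ hχ (by rw [hw]; norm_num)
  have hw1 : w ^ 40 = 1 := by rw [← hw, pow_orderOf_eq_one]
  have hback : (w ^ 21) ^ 21 = w := by
    rw [← pow_mul, show 21 * 21 = 40 * 11 + 1 from rfl, pow_succ, pow_mul, hw1, one_pow, one_mul]
  refine ⟨⟨χ, fun α => ?_⟩, ⟨χ, fun α => ?_⟩⟩
  · rcases hA α with h | h
    · rw [← hcj _ _ h, hχ]
    · rw [← hcj _ _ h, hχ']
  · rw [map_pow]
    rcases hA α with h | h
    · obtain ⟨c, hc⟩ := isConj_iff.1 h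
      rw [← hcj (w ^ 21) ((α w) ^ 21) (isConj_iff.2 ⟨c, by rw [← hc, conj_pow]⟩), hχ']
    · obtain ⟨c, hc⟩ := isConj_iff.1 h
      rw [← hcj w ((α w) ^ 21) (isConj_iff.2 ⟨c, by rw [← hc, conj_pow, hback]⟩), hχ]

end Cfsg.Agent.H546.VO
end

-- part: H594/BTrA
section
set_option linter.all false
open scoped Cfsg.Agent.FastGrp

/-!
# Traces on the module of degree 4371 of the Baby Monster (helper594)

* `trace_sum` : the trace as a sum over the lanes;
* `q_zero` : if `g` is conjugate to `g z` by an element commuting with `z`, the `2048`-part contributes `0`;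
* `x_zero` : the `2300`-part contributes `0` if no code of an `X`-lane is fixed;
* `trace_zero` : the criterion.
-/

set_option autoImplicit false

namespace Cfsg.Agent.H594.BTr

open Cfsg.Agent.Monster Cfsg.Agent.Monster.VecEngine Cfsg.Agent.Monster.VecSpace
open Cfsg.Agent.Monster.PauliBasic Cfsg.Agent.Monster.PauliRep Cfsg.Agent.Monster.PauliClif Cfsg.Agent.Monster.PauliBits
open Cfsg.Agent.BabyM.QAct
open Cfsg.Agent.BabyM.Conc Cfsg.Agent.BabyM.KTab Cfsg.Agent.BabyM.KQ
open Cfsg.Agent.BabyM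
open Cfsg.Agent.H863.BRed Cfsg.Agent.H863.BRep Cfsg.Agent.H863.BCode Cfsg.Agent.H863.BStage Cfsg.Agent.H863.BGrp
open Cfsg.Agent.H863.BMdl Cfsg.Agent.H863.BInst
open Cfsg.Agent.Lib.PermNet

variable {F : Type*} [Field F] (h2 : (2 : F) ≠ 0)

/-- The diagonal entries. -/
noncomputable def D (g : G) (i : Lane U) : F := sigma h2 g (Pi.single i 1) i

/-- The trace as a sum over the lanes. -/
theorem trace_sum (g : G) : LinearMap.trace F (Lane U → F) (sigma h2 g) = ∑ i, D h2 g i := by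
  classical
  rw [LinearMap.trace_eq_matrix_trace F (Pi.basisFun F (Lane U))]
  unfold Matrix.trace
  refine Finset.sum_congr rfl fun i _ => ?_
  rw [Matrix.diag_apply, LinearMap.toMatrix_apply, Pi.basisFun_apply, Pi.basisFun_repr]
  rfl

theorem D_mul_z_q (g : G) {i : Lane U} (hi : Cd.isq i) : D h2 (g * gE .z) i = - D h2 g i := by
  have h := (M h2).z_q hi
  have h' : sigma h2 (gE .z) (Pi.single i 1) = - (Pi.single i 1 : Lane U → F) := h
  unfold D
  rw [map_mul, Module.End.mul_apply, h', map_neg]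
  rfl

theorem D_mul_z_l (g : G) {i : Lane U} (hi : ¬ Cd.isq i) : D h2 (g * gE .z) i = D h2 g i := by
  have h := (M h2).z_l hi
  have h' : sigma h2 (gE .z) (Pi.single i 1) = (Pi.single i 1 : Lane U → F) := h
  unfold D
  rw [map_mul, Module.End.mul_apply, h']

theorem trace_conj (g v : G) : LinearMap.trace F (Lane U → F) (sigma h2 (v⁻¹ * g * v)) =
    LinearMap.trace F (Lane U → F) (sigma h2 g) := by
  rw [map_mul, LinearMap.trace_mul_comm, ← map_mul]
  congr 2
  group

open Classical in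
/-- The contribution of the `2048`-part. -/
theorem q_zero {g v : G} (h : v⁻¹ * g * v = g * gE .z) : ∑ i, (if Cd.isq i then D h2 g i else 0) = 0 := by
  have h1 := trace_conj h2 g v
  rw [h, trace_sum, trace_sum] at h1
  have h3 : ∑ i, D h2 (g * gE .z) i = ∑ i, (D h2 g i - 2 * (if Cd.isq i then D h2 g i else 0)) := by
    refine Finset.sum_congr rfl fun i _ => ?_
    by_cases hi : Cd.isq i
    · rw [if_pos hi, D_mul_z_q h2 g hi]; ring
    · rw [if_neg hi, D_mul_z_l h2 g hi]; ring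
  rw [h3, Finset.sum_sub_distrib, ← Finset.mul_sum, sub_eq_self] at h1
  exact (mul_eq_zero.1 h1).resolve_left h2

/-- No contribution of an `X`-lane whose code is moved. -/
theorem x_zero {v : List Ltr} (hv : allW v = true) {i : Lane U} (hi : Cd.isX i) (hc : lw v (cd i.1) ≠ cd i.1)
    (hlt : lw v (cd i.1) < 2 ^ 22) : D h2 (gW v) i = 0 := by
  classical
  obtain ⟨α, hα, hX⟩ := KFact.fact (W v) (W_mem_C v hv)
  obtain ⟨j, hj, s, t, h3, -, h5⟩ := hX i hi
  have hji : j ≠ i := by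
    rintro rfl
    apply hc
    obtain ⟨q, hq1, hq2⟩ := Cj_word v hv (cd j.1) (Cd.c j) rfl
    have h6 : q = α (Cd.c j) := by
      apply Cd.R_injective
      apply mul_right_cancel (b := W v)
      rw [← hq1, hα]
    rw [h6, h3] at hq2
    have h7 : ab ((⟨s, 0, 0⟩ : Pauli 11) * Cd.c j) = ab (Cd.c j) := by
      refine Prod.ext ?_ ?_
      · show (0 : B 11) + (Cd.c j).a = _
        rw [zero_add]; rfl
      · show (0 : B 11) + (Cd.c j).b = _
        rw [zero_add]; rfl
    rw [h7] at hq2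
    exact (eq_of_ab_dec (cd_lt _) hlt hq2).symm
  have h8 := tr_mono h2 (g := gW v) h5
  unfold D
  rw [h8, Pi.smul_apply, Pi.single_eq_of_ne hji.symm, smul_zero]

end Cfsg.Agent.H594.BTr
end

-- part: H594/BTrB
section
set_option linter.all false
open scoped Cfsg.Agent.FastGrp

/-!
# Traces on the module of degree 4371 of the Baby Monster: evaluation of entries (helper594)

* `run_single` : the images of the unit vectors;
* `trace_zero` : the criterion for `χ(g) = 0`;
* `orbit` : the order from an orbit of vectors.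
-/

set_option autoImplicit false

namespace Cfsg.Agent.H594.BTr

open Cfsg.Agent.Monster Cfsg.Agent.Monster.VecEngine Cfsg.Agent.Monster.VecSpace
open Cfsg.Agent.Monster.PauliBasic Cfsg.Agent.Monster.PauliRep Cfsg.Agent.Monster.PauliClif Cfsg.Agent.Monster.PauliBits
open Cfsg.Agent.BabyM.QAct
open Cfsg.Agent.BabyM.Conc Cfsg.Agent.BabyM.KTab Cfsg.Agent.BabyM.KQ
open Cfsg.Agent.BabyM
open Cfsg.Agent.H863.BRed Cfsg.Agent.H863.BRep Cfsg.Agent.H863.BCode Cfsg.Agent.H863.BStage Cfsg.Agent.H863.BGrp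
open Cfsg.Agent.H863.BMdl Cfsg.Agent.H863.BInst
open Cfsg.Agent.Lib.PermNet Cfsg.Agent.MonsterX.VecRel

/-- The engine. -/
theorem W_run {v : List Ltr} {x : Pl} {k : Pl → Bool} (h : runL (v.map Ltr.prog) x k = true) :
    ∃ y : Pl, W v (vecU ℚ U x) = vecU ℚ U y ∧ k y = true := by
  obtain ⟨y, hy, hk⟩ := runL_sound ℚ (m := 2 ^ 13) two_ne_zero _ (fun P hP => (good_progs v P hP).pres.ok) _ _ h
  refine ⟨y, ?_, hk⟩
  rw [W_apply, vecU_eq, vecU_eq, hy, res_semL ℚ fun P hP => (good_progs v P hP).pres]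

variable {F : Type*} [Field F] (h2 : (2 : F) ≠ 0)

theorem run_single {v : List Ltr} {s : ℕ} {i : Lane U} {k : Pl → Bool}
    (h : runL (v.map Ltr.prog) (shl s (2 ^ i.1)) k = true) :
    ∃ y : Pl, k y = true ∧ ∀ j : Lane U, (2 : F) ^ s * sigma h2 (gW v) (Pi.single i 1) j = ((val y j.1 : ℤ) : F) := by
  classical
  obtain ⟨y, hy, hk⟩ := W_run h
  refine ⟨y, hk, fun j => ?_⟩
  have h1 : sigma h2 (gW v) (up F fun j : Lane U => val (shl s (2 ^ i.1)) j.1) = up F fun j : Lane U => val y j.1 :=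
    tr h2 (gW v) hy
  have h3 : (up F fun j : Lane U => val (shl s (2 ^ i.1)) j.1) = (2 : F) ^ s • (Pi.single i 1 : Lane U → F) := by
    funext j
    have h4 := congrFun (vec_shl (R := F) s (2 ^ i.1)) j.1
    change ((val (shl s (2 ^ i.1)) j.1 : ℤ) : F) = (2 : F) ^ s * (if (2 ^ i.1).testBit j.1 then 1 else 0) at h4
    show ((val (shl s (2 ^ i.1)) j.1 : ℤ) : F) = (2 : F) ^ s * (Pi.single i 1 : Lane U → F) j
    rw [h4]
    congr 1
    by_cases hij : j = i
    · subst hij
      rw [Nat.testBit_two_pow_self, Pi.single_eq_same, if_pos rfl]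
    · rw [Nat.testBit_two_pow_of_ne (fun h5 => hij (Subtype.ext h5.symm)), Pi.single_eq_of_ne hij]
      rfl
  rw [h3, map_smul] at h1
  exact congrFun h1 j

/-- The check of a diagonal entry. -/
noncomputable def dchk (v : List Ltr) (s i : ℕ) (a : ℤ) : Bool :=
  runL (v.map Ltr.prog) (shl s (2 ^ i)) fun y => decide (val y i = a)

theorem D_of_dchk {v : List Ltr} {s : ℕ} {i : Lane U} {a : ℤ} (h : dchk v s i.1 a = true) :
    (2 : F) ^ s * D h2 (gW v) i = (a : F) := by
  obtain ⟨y, hk, hy⟩ := run_single h2 h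
  have h1 : val y i.1 = a := of_decide_eq_true hk
  rw [← h1]
  exact hy i

open Classical in
/-- The contribution of the `23`-part. -/
theorem u_zero {v : List Ltr} {s : ℕ} (L : ℕ → ℤ) (h : ∀ k < 23, dchk v s (1344 + k) (L k) = true)
    (h0 : ∑ k ∈ Finset.range 23, L k = 0) : ∑ i, (if Cd.isU i then D h2 (gW v) i else 0) = 0 := by
  have h1 : (2 : F) ^ s * ∑ i, (if Cd.isU i then D h2 (gW v) i else 0) =
      ∑ i : Lane U, (fun j : ℕ => if 1344 ≤ j ∧ j ≤ 1366 then ((L (j - 1344) : ℤ) : F) else 0) i.1 := by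
    rw [Finset.mul_sum]
    refine Finset.sum_congr rfl fun i _ => ?_
    by_cases hi : Cd.isU i
    · have hi' := isU_iff.1 hi
      rw [if_pos hi]
      show _ = if 1344 ≤ i.1 ∧ i.1 ≤ 1366 then ((L (i.1 - 1344) : ℤ) : F) else 0
      rw [if_pos hi']
      apply D_of_dchk h2
      have h3 := h (i.1 - 1344) (by omega)
      rwa [show 1344 + (i.1 - 1344) = i.1 by omega] at h3
    · have hi' : ¬ (1344 ≤ i.1 ∧ i.1 ≤ 1366) := fun h3 => hi (isU_iff.2 h3)
      rw [if_neg hi, mul_zero]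
      show _ = if 1344 ≤ i.1 ∧ i.1 ≤ 1366 then ((L (i.1 - 1344) : ℤ) : F) else 0
      rw [if_neg hi']
  have h1 := h1.trans (sum_lane U_lt (fun j : ℕ => if 1344 ≤ j ∧ j ≤ 1366 then ((L (j - 1344) : ℤ) : F) else 0))
  have h3 : ∑ i ∈ Finset.range (2 ^ 13), (if U.testBit i = true then
      (fun j : ℕ => if 1344 ≤ j ∧ j ≤ 1366 then ((L (j - 1344) : ℤ) : F) else 0) i else 0) =
      ∑ k ∈ Finset.range 23, ((L k : ℤ) : F) := by
    symm
    rw [← Finset.sum_subset (s₁ := (Finset.range 23).map ⟨fun k => 1344 + k, fun a b hab => by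
      simpa using hab⟩) (s₂ := Finset.range (2 ^ 13))]
    · rw [Finset.sum_map]
      refine Finset.sum_congr rfl fun k hk => ?_
      rw [Finset.mem_range] at hk
      show _ = if U.testBit (1344 + k) = true then
        (if 1344 ≤ 1344 + k ∧ 1344 + k ≤ 1366 then ((L (1344 + k - 1344) : ℤ) : F) else 0) else 0
      rw [if_pos (by revert k; decide +kernel), if_pos (by omega), show 1344 + k - 1344 = k by omega]
    · intro x hx
      rw [Finset.mem_map] at hx
      obtain ⟨k, hk, rfl⟩ := hx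
      rw [Finset.mem_range] at hk ⊢
      show 1344 + k < 2 ^ 13
      norm_num
      omega
    · intro x _ hx
      show (if U.testBit x = true then (if 1344 ≤ x ∧ x ≤ 1366 then ((L (x - 1344) : ℤ) : F) else 0) else 0) = 0
      rw [if_neg (c := 1344 ≤ x ∧ x ≤ 1366), ite_self]
      rintro ⟨h4, h5⟩
      apply hx
      rw [Finset.mem_map]
      exact ⟨x - 1344, Finset.mem_range.2 (by omega), by
        show 1344 + (x - 1344) = x
        omega⟩
  rw [h3, ← Int.cast_sum, h0, Int.cast_zero] at h1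
  exact (mul_eq_zero.1 h1).resolve_left (pow_ne_zero _ h2)

/-- All codes of `X`-lanes are moved. -/
noncomputable def xchk (v : List Ltr) : Bool :=
  allN 12 (fun i => Bool.rec true (Bool.rec (and (Nat.blt (lw v (cd i)) 4194304) (not (Nat.beq (lw v (cd i)) (cd i))))
    true (Nat.beq (cd i) 0)) (Nat.testBit U i)) 0

theorem xchk_spec {v : List Ltr} (h : xchk v = true) {i : Lane U} (hi : Cd.isX i) :
    lw v (cd i.1) ≠ cd i.1 ∧ lw v (cd i.1) < 2 ^ 22 := by
  obtain ⟨h1, h3⟩ := isX_iff.1 hi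
  have h4 := allN_spec h (Nat.zero_le i.1) (by rw [zero_add]; exact h1)
  simp only [i.2] at h4
  have h5 : Nat.beq (cd i.1) 0 = false := by
    rw [Bool.eq_false_iff]
    intro h6
    exact h3 (Nat.eq_of_beq_eq_true h6)
  rw [h5] at h4
  have h6 : and (Nat.blt (lw v (cd i.1)) 4194304) (not (Nat.beq (lw v (cd i.1)) (cd i.1))) = true := h4
  rw [Bool.and_eq_true, Bool.not_eq_true'] at h6
  refine ⟨fun h7 => ?_, ?_⟩
  · rw [h7] at h6
    have h8 := h6.2
    rw [show Nat.beq (cd i.1) (cd i.1) = true from Nat.beq_refl _] at h8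
    exact absurd h8 (by simp)
  · have h8 := h6.1
    have h9 : lw v (cd i.1) + 1 ≤ 4194304 := Nat.le_of_ble_eq_true h8
    omega

/-- **The criterion.** -/
theorem trace_zero {v : List Ltr} (hv : allW v = true) {t : G} (ht : t⁻¹ * gW v * t = gW v * gE .z)
    (hx : xchk v = true) {s : ℕ} (L : ℕ → ℤ) (h : ∀ k < 23, dchk v s (1344 + k) (L k) = true)
    (h0 : ∑ k ∈ Finset.range 23, L k = 0) : LinearMap.trace F (Lane U → F) (sigma h2 (gW v)) = 0 := by
  classical
  rw [trace_sum]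
  have h1 : ∑ i, D h2 (gW v) i = ∑ i, (if Cd.isq i then D h2 (gW v) i else 0) +
      ∑ i, (if Cd.isU i then D h2 (gW v) i else 0) := by
    rw [← Finset.sum_add_distrib]
    refine Finset.sum_congr rfl fun i _ => ?_
    rcases Cd.cases i with hi | hi | hi
    · rw [if_pos hi, if_neg (fun h3 : Cd.isU i => h3.1 hi), add_zero]
    · rw [if_neg hi.1, if_neg (fun h3 => Cd.not_isX_of_isU h3 hi), add_zero]
      obtain ⟨h3, h4⟩ := xchk_spec hx hi
      exact x_zero h2 hv hi h3 h4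
    · rw [if_neg hi.1, if_pos hi, zero_add]
  rw [h1, q_zero h2 ht, u_zero h2 L h h0, add_zero]

end Cfsg.Agent.H594.BTr
end

-- part: H594/BTrC
section
set_option linter.all false
open scoped Cfsg.Agent.FastGrp

/-!
# Elements of the Baby Monster: orders from orbits, conjugates `g z` (helper594)
-/

set_option autoImplicit false

namespace Cfsg.Agent.H594.BTr

open Cfsg.Agent.Monster Cfsg.Agent.Monster.VecEngine Cfsg.Agent.Monster.VecSpace
open Cfsg.Agent.Monster.PauliBasic Cfsg.Agent.Monster.PauliRep Cfsg.Agent.Monster.PauliClif Cfsg.Agent.Monster.PauliBits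
open Cfsg.Agent.BabyM.QAct
open Cfsg.Agent.BabyM.Conc Cfsg.Agent.BabyM.KTab Cfsg.Agent.BabyM.KQ
open Cfsg.Agent.BabyM
open Cfsg.Agent.H863.BRed Cfsg.Agent.H863.BRep Cfsg.Agent.H863.BCode Cfsg.Agent.H863.BStage Cfsg.Agent.H863.BGrp
open Cfsg.Agent.H863.BMdl Cfsg.Agent.H863.BInst
open Cfsg.Agent.Lib.PermNet Cfsg.Agent.MonsterX.VecRel

/-! ### Orders -/

/-- the `n`-th power of a word -/
def rep (v : List Ltr) : ℕ → List Ltr
  | 0 => []
  | n + 1 => v ++ rep v n

theorem W_rep (v : List Ltr) (n : ℕ) : W (rep v n) = W v ^ n := by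
  induction n with
  | zero => rfl
  | succ n ih =>
    show W (v ++ rep v n) = _
    rw [W_append, ih, pow_succ]

/-- The word moves the vector: the value in one lane changes. -/
noncomputable def mvchk (v : List Ltr) (x : Pl) (i : ℕ) : Bool :=
  runL (v.map Ltr.prog) x fun y => not (decide (val y i = val x i))

theorem W_ne_of_mvchk {v : List Ltr} {x : Pl} {i : ℕ} (hi : U.testBit i = true) (h : mvchk v x i = true) :
    W v (vecU ℚ U x) ≠ vecU ℚ U x := by
  obtain ⟨y, hy, hk⟩ := W_run h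
  intro h1
  rw [hy] at h1
  have h3 := congrFun h1 ⟨i, hi⟩
  change ((val y i : ℤ) : ℚ) = ((val x i : ℤ) : ℚ) at h3
  have h4 : val y i = val x i := by exact_mod_cast h3
  rw [h4] at hk
  simp at hk

theorem fix_iff (v : List Ltr) (n : ℕ) (x : Pl) :
    (W (rep v n) (vecU ℚ U x) = vecU ℚ U x) ↔ MulAction.period (gW v) (vecU ℚ U x) ∣ n := by
  rw [← MulAction.pow_smul_eq_iff_period_dvd, W_rep]
  rfl

theorem dvd_order {v : List Ltr} {x : Pl} {n : ℕ} (h : MulAction.period (gW v) (vecU ℚ U x) = n) :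
    n ∣ orderOf (gW v) := by
  rw [← h]
  exact MulAction.period_dvd_orderOf _ _

/-! ### Conjugates -/

/-- `g` is conjugate to `g z` by an element of the Pauli group. -/
theorem conj_z {v pz : List Ltr} (hv : allW v = true) (hp : pz.all KQ.isq = true) {c : ℕ}
    (hc : ab (dec 11 (cw pz)) = ab (dec 11 c)) (hlw : lw v c = c) {s i j : ℕ} {a b : ℤ} (hj : U.testBit j = true)
    (h1 : runL ((pz ++ v).map Ltr.prog) (shl s (2 ^ i)) (fun y => decide (val y j = a)) = true)
    (h3 : runL ((v ++ pz).map Ltr.prog) (shl s (2 ^ i)) (fun y => decide (val y j = b)) = true) (hab : a ≠ b) :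
    (gW pz)⁻¹ * gW v * gW pz = gW v * gE .z := by
  have hW : W pz = Cd.R (dec 11 (cw pz)) := W_eq_R pz hp
  obtain ⟨q, hq1, hq2⟩ := Cj_word v hv c (dec 11 (cw pz)) hc
  rw [hlw, ← hc] at hq2
  have key : W v * W pz = W pz * E .z * W v := by
    rcases eq_or_of_ab hq2 with h4 | h4
    · exfalso
      rw [h4, ← hW, ← W_append, ← W_append] at hq1
      obtain ⟨y, hy, hky⟩ := W_run h1
      obtain ⟨y', hy', hky'⟩ := W_run h3
      rw [hq1, hy'] at hy
      have h5 := congrFun hy ⟨j, hj⟩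
      change ((val y' j : ℤ) : ℚ) = ((val y j : ℤ) : ℚ) at h5
      have h6 : val y' j = val y j := by exact_mod_cast h5
      rw [of_decide_eq_true hky, of_decide_eq_true hky'] at h6
      exact hab h6.symm
    · rw [h4, map_mul, ← hW, ← E_z'] at hq1
      exact hq1
  have hzc : gE .z * gW v = gW v * gE .z := (z_comm (W_mem_C v hv)).symm
  have key' : gW v * gW pz = gW pz * gE .z * gW v := Subtype.ext key
  rw [mul_assoc, key', ← hzc]
  group

end Cfsg.Agent.H594.BTr
end

-- part: H594/BFive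
section
set_option linter.all false
open scoped Cfsg.Agent.FastGrp

/-!
# Two elements of the Baby Monster (helper594)

* `g20` : an element of order divisible by `20` on which the character of degree `4371` vanishes;
* `g55` : an element of order divisible by `55`.
-/

set_option autoImplicit false
set_option maxRecDepth 100000

namespace Cfsg.Agent.H594.BTr

open Cfsg.Agent.Monster Cfsg.Agent.Monster.VecEngine Cfsg.Agent.Monster.VecSpace
open Cfsg.Agent.Monster.PauliBasic Cfsg.Agent.Monster.PauliRep Cfsg.Agent.Monster.PauliClif Cfsg.Agent.Monster.PauliBits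
open Cfsg.Agent.BabyM.QAct
open Cfsg.Agent.BabyM.Conc Cfsg.Agent.BabyM.KTab Cfsg.Agent.BabyM.KQ
open Cfsg.Agent.BabyM
open Cfsg.Agent.H863.BRed Cfsg.Agent.H863.BRep Cfsg.Agent.H863.BCode Cfsg.Agent.H863.BStage Cfsg.Agent.H863.BGrp
open Cfsg.Agent.H863.BMdl Cfsg.Agent.H863.BInst
open Cfsg.Agent.Lib.PermNet Cfsg.Agent.MonsterX.VecRel

/-- the word of an element of order 20 -/
def v20 : List Ltr := [.p, .xi, .p, .p, .p, .xi]

/-- an element of the Pauli group -/
def pz : List Ltr := [.X0, .X4, .X6, .X7, .X10, .Z0, .Z7, .Z10]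

/-- the diagonal entries, times 16 -/
def dg : ℕ → ℤ := fun k => [0, 8, 0, 4, 4, 0, 0, 4, -4, 0, 0, -4, -4, 0, -4, -4, -4, 0, 4, 0, -4, 4, 0].getD k 0

theorem dg0 : dchk v20 4 (1344 + 0) (dg 0) = true := by
  delta dchk; rewrite [Cfsg.Agent.Monster.VecFast.runL_eq]; decide +kernel
theorem dg1 : dchk v20 4 (1344 + 1) (dg 1) = true := by
  delta dchk; rewrite [Cfsg.Agent.Monster.VecFast.runL_eq]; decide +kernel
theorem dg2 : dchk v20 4 (1344 + 2) (dg 2) = true := by
  delta dchk; rewrite [Cfsg.Agent.Monster.VecFast.runL_eq]; decide +kernel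
theorem dg3 : dchk v20 4 (1344 + 3) (dg 3) = true := by
  delta dchk; rewrite [Cfsg.Agent.Monster.VecFast.runL_eq]; decide +kernel
theorem dg4 : dchk v20 4 (1344 + 4) (dg 4) = true := by
  delta dchk; rewrite [Cfsg.Agent.Monster.VecFast.runL_eq]; decide +kernel
theorem dg5 : dchk v20 4 (1344 + 5) (dg 5) = true := by
  delta dchk; rewrite [Cfsg.Agent.Monster.VecFast.runL_eq]; decide +kernel
theorem dg6 : dchk v20 4 (1344 + 6) (dg 6) = true := by
  delta dchk; rewrite [Cfsg.Agent.Monster.VecFast.runL_eq]; decide +kernel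
theorem dg7 : dchk v20 4 (1344 + 7) (dg 7) = true := by
  delta dchk; rewrite [Cfsg.Agent.Monster.VecFast.runL_eq]; decide +kernel
theorem dg8 : dchk v20 4 (1344 + 8) (dg 8) = true := by
  delta dchk; rewrite [Cfsg.Agent.Monster.VecFast.runL_eq]; decide +kernel
theorem dg9 : dchk v20 4 (1344 + 9) (dg 9) = true := by
  delta dchk; rewrite [Cfsg.Agent.Monster.VecFast.runL_eq]; decide +kernel
theorem dg10 : dchk v20 4 (1344 + 10) (dg 10) = true := by
  delta dchk; rewrite [Cfsg.Agent.Monster.VecFast.runL_eq]; decide +kernel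
theorem dg11 : dchk v20 4 (1344 + 11) (dg 11) = true := by
  delta dchk; rewrite [Cfsg.Agent.Monster.VecFast.runL_eq]; decide +kernel
theorem dg12 : dchk v20 4 (1344 + 12) (dg 12) = true := by
  delta dchk; rewrite [Cfsg.Agent.Monster.VecFast.runL_eq]; decide +kernel
theorem dg13 : dchk v20 4 (1344 + 13) (dg 13) = true := by
  delta dchk; rewrite [Cfsg.Agent.Monster.VecFast.runL_eq]; decide +kernel
theorem dg14 : dchk v20 4 (1344 + 14) (dg 14) = true := by
  delta dchk; rewrite [Cfsg.Agent.Monster.VecFast.runL_eq]; decide +kernel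
theorem dg15 : dchk v20 4 (1344 + 15) (dg 15) = true := by
  delta dchk; rewrite [Cfsg.Agent.Monster.VecFast.runL_eq]; decide +kernel
theorem dg16 : dchk v20 4 (1344 + 16) (dg 16) = true := by
  delta dchk; rewrite [Cfsg.Agent.Monster.VecFast.runL_eq]; decide +kernel
theorem dg17 : dchk v20 4 (1344 + 17) (dg 17) = true := by
  delta dchk; rewrite [Cfsg.Agent.Monster.VecFast.runL_eq]; decide +kernel
theorem dg18 : dchk v20 4 (1344 + 18) (dg 18) = true := by
  delta dchk; rewrite [Cfsg.Agent.Monster.VecFast.runL_eq]; decide +kernel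
theorem dg19 : dchk v20 4 (1344 + 19) (dg 19) = true := by
  delta dchk; rewrite [Cfsg.Agent.Monster.VecFast.runL_eq]; decide +kernel
theorem dg20 : dchk v20 4 (1344 + 20) (dg 20) = true := by
  delta dchk; rewrite [Cfsg.Agent.Monster.VecFast.runL_eq]; decide +kernel
theorem dg21 : dchk v20 4 (1344 + 21) (dg 21) = true := by
  delta dchk; rewrite [Cfsg.Agent.Monster.VecFast.runL_eq]; decide +kernel
theorem dg22 : dchk v20 4 (1344 + 22) (dg 22) = true := by
  delta dchk; rewrite [Cfsg.Agent.Monster.VecFast.runL_eq]; decide +kernel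

theorem dgs : ∀ k < 23, dchk v20 4 (1344 + k) (dg k) = true := by
  intro k hk
  interval_cases k
  · exact dg0
  · exact dg1
  · exact dg2
  · exact dg3
  · exact dg4
  · exact dg5
  · exact dg6
  · exact dg7
  · exact dg8
  · exact dg9
  · exact dg10
  · exact dg11
  · exact dg12
  · exact dg13
  · exact dg14
  · exact dg15
  · exact dg16
  · exact dg17
  · exact dg18
  · exact dg19
  · exact dg20
  · exact dg21
  · exact dg22

section
open Cfsg.Agent.BabyM.KRow (im pos)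

private noncomputable def frn (x : ℕ) (f : ℕ → ℕ) : ℕ := Nat.rec (f 0) (fun m _ => f (Nat.succ m)) x

private theorem frn_eq (x : ℕ) (f : ℕ → ℕ) : frn x f = f x := by cases x <;> rfl

private theorem lnf_cons (img : ℕ → ℕ) (m k : ℕ) (l : List ℕ) (acc : ℕ) :
    lnf img m (k :: l) acc = lnf img m l (Bool.rec acc (Nat.xor acc (img k)) (KRow.tb m k)) := seq_eq _ _

private theorem lnf_acc (img : ℕ → ℕ) (m : ℕ) (l : List ℕ) (a b : ℕ) :
    lnf img m l (a ^^^ b) = a ^^^ lnf img m l b := by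
  induction l generalizing b with
  | nil => rfl
  | cons k l ih =>
    rw [lnf_cons, lnf_cons, ← ih]
    cases KRow.tb m k
    · rfl
    · exact congrArg _ (Nat.xor_assoc _ _ _)

private theorem lnf_append (img : ℕ → ℕ) (m : ℕ) (l l' : List ℕ) (acc : ℕ) :
    lnf img m (l ++ l') acc = lnf img m l acc ^^^ lnf img m l' 0 := by
  induction l generalizing acc with
  | nil => exact (congrArg _ (Nat.xor_zero acc).symm).trans (lnf_acc img m l' acc 0)
  | cons k l ih => rw [List.cons_append, lnf_cons, lnf_cons, ih]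

private theorem lnf_msk (img : ℕ → ℕ) (m M : ℕ) (l : List ℕ) (h : ∀ k ∈ l, M.testBit k = true) (acc : ℕ) :
    lnf img m l acc = lnf img (Nat.land m M) l acc := by
  induction l generalizing acc with
  | nil => rfl
  | cons k l ih =>
    have e : KRow.tb (Nat.land m M) k = KRow.tb m k := by
      rw [KRow.tb_eq, KRow.tb_eq]
      exact (Nat.testBit_and m M k).trans (by rw [h k List.mem_cons_self, Bool.and_true])
    rw [lnf_cons, lnf_cons, e, ih fun k hk => h k (List.mem_cons_of_mem _ hk)]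

private noncomputable def lnF (I x : ℕ) : ℕ :=
  frn (Nat.land x 0x7f800) fun a => frn (Nat.land x 0x38000f) fun b => frn (Nat.land x 0x7f0) fun c =>
    Nat.land (Nat.xor (lnf (im I) a [11, 12, 13, 14, 15, 16, 17, 18] 0)
      (Nat.xor (lnf (im I) b [19, 20, 21, 0, 1, 2, 3] 0) (lnf (im I) c [4, 5, 6, 7, 8, 9, 10] 0))) 0x3fffff

private theorem ln_eqF (I x : ℕ) : ln I x = lnF I x := by
  have e : pos = [11, 12, 13, 14, 15, 16, 17, 18] ++ ([19, 20, 21, 0, 1, 2, 3] ++ [4, 5, 6, 7, 8, 9, 10]) := rfl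
  delta ln lnF
  rw [frn_eq, frn_eq, frn_eq, e, lnf_append, lnf_append, lnf_msk _ x 0x7f800 [11, 12, 13, 14, 15, 16, 17, 18] (by decide),
    lnf_msk _ x 0x38000f [19, 20, 21, 0, 1, 2, 3] (by decide), lnf_msk _ x 0x7f0 [4, 5, 6, 7, 8, 9, 10] (by decide)]
  rfl

private noncomputable def lwF (v : List Ltr) : ℕ → ℕ :=
  List.rec (motive := fun _ => ℕ → ℕ) (fun x => x) (fun l _ ih x => frn (lnF (Ic l) x) ih) v

private theorem lw_eqF : lw = lwF := by
  funext v x
  induction v generalizing x with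
  | nil => rfl
  | cons l v ih =>
    show seq (ln (Ic l) x) (lw v) = frn (lnF (Ic l) x) (lwF v)
    rw [seq_eq, frn_eq, ln_eqF, ih]

end

theorem xchk20 : xchk v20 = true := by
  delta xchk
  rewrite [lw_eqF]
  decide +kernel

theorem allW20 : allW v20 = true := rfl

theorem sgA : runL ((pz ++ v20).map Ltr.prog) (shl 4 (2 ^ 4096)) (fun y => decide (val y 4102 = 1)) = true := by
  rewrite [Cfsg.Agent.Monster.VecFast.runL_eq]; decide +kernel

theorem sgB : runL ((v20 ++ pz).map Ltr.prog) (shl 4 (2 ^ 4096)) (fun y => decide (val y 4102 = -1)) = true := by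
  rewrite [Cfsg.Agent.Monster.VecFast.runL_eq]; decide +kernel

theorem lw20 : lw v20 0x268c81 = 0x268c81 := by decide +kernel

theorem cwp : Nat.land (cw pz) 0x3fffff = 0x268c81 := by decide +kernel

theorem conj20 : (gW pz)⁻¹ * gW v20 * gW pz = gW v20 * gE .z := by
  refine conj_z allW20 rfl (c := 0x268c81) ?_ lw20 (by decide +kernel) sgA sgB (by norm_num)
  rw [← cwp]
  exact (ab_dec_mask _).symm

/-- **The character of degree 4371 vanishes.** -/
theorem trace20 {F : Type*} [Field F] (h2 : (2 : F) ≠ 0) :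
    LinearMap.trace F (Lane U → F) (sigma h2 (gW v20)) = 0 :=
  trace_zero h2 allW20 conj20 xchk20 dg dgs (by decide)

theorem fix20 : checkFix ((rep v20 20).map Ltr.prog) (shl 4 (2 ^ 0)) = true := by
  rewrite [Cfsg.Agent.Monster.VecFast.checkFix_eq]; decide +kernel

theorem mv10 : mvchk (rep v20 10) (shl 4 (2 ^ 0)) 0 = true := by
  delta mvchk; rewrite [Cfsg.Agent.Monster.VecFast.runL_eq]; decide +kernel

theorem mv4 : mvchk (rep v20 4) (shl 4 (2 ^ 0)) 0 = true := by
  delta mvchk; rewrite [Cfsg.Agent.Monster.VecFast.runL_eq]; decide +kernel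

theorem order20 : 20 ∣ orderOf (gW v20) := by
  apply dvd_order (x := shl 4 (2 ^ 0))
  have h1 := (fix_iff v20 20 _).1 (W_fix_of_check fix20)
  have h3 : ¬ MulAction.period (gW v20) (vecU ℚ U (shl 4 (2 ^ 0))) ∣ 10 := fun h =>
    W_ne_of_mvchk (i := 0) (by decide +kernel) mv10 ((fix_iff v20 10 _).2 h)
  have h4 : ¬ MulAction.period (gW v20) (vecU ℚ U (shl 4 (2 ^ 0))) ∣ 4 := fun h =>
    W_ne_of_mvchk (i := 0) (by decide +kernel) mv4 ((fix_iff v20 4 _).2 h)
  generalize MulAction.period (gW v20) (vecU ℚ U (shl 4 (2 ^ 0))) = n at h1 h3 h4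
  have h5 : n ≤ 20 := Nat.le_of_dvd (by norm_num) h1
  interval_cases n <;> revert h1 h3 h4 <;> decide

end Cfsg.Agent.H594.BTr
end

-- part: H546/VO/HNForty
section
set_option linter.all false
open scoped Cfsg.Agent.FastGrp

/-!
# An element of order 40 of `2.HS.2` (helper546)

`y40` is a word of order 40 in `H0` (`2.HS.2` inside the Harada–Norton group) with `y40 ^ 20 = τ`; `mem_of_comm` : an
element of `H0` commuting with `y40` is `y40 ^ k` or `y40 ^ k * τ` with `k < 20`; `c23`, `c11`, `c25` : conjugations.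
-/

set_option autoImplicit false
set_option maxRecDepth 100000

namespace Cfsg.Agent.H546.VO.HNForty

open Cfsg.Agent.HN.Pres Cfsg.Agent.HN.HS100 Cfsg.Agent.HN.P1408 Cfsg.Agent.HN.H0Basic
open Cfsg.Agent.HN.CentBound Equiv
open Cfsg.Agent.H710.Spor.HNCent (sep chkU Fixes Fixes.step)
open Cfsg.Agent.SporadicA.PermTab (band allB allB_iff band_eq_true lk bitM autG mem_autG)

noncomputable section

def xw : List ℕ := [0, 2, 4, 2]

/-- an element of order 40 -/
def y40 : H0 := hw xw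

def pw (n : ℕ) : List ℕ := Nat.rec [] (fun _ ih => xw ++ ih) n

theorem hw_pw (n : ℕ) : hw (pw n) = y40 ^ n := by
  induction n with
  | zero => rw [pow_zero]; exact hw_nil
  | succ n ih =>
    rw [pow_succ', ← ih]
    exact hw_append xw (pw n)

theorem y_pow_20 : y40 ^ 20 = τ := by
  rw [← hw_pw, ← hw_τ]
  exact hw_eq (by decide +kernel)

theorem y_pow_40 : y40 ^ 40 = 1 := by
  rw [show 40 = 20 * 2 from rfl, pow_mul, y_pow_20, pow_two, τ_mul_τ]

/-- iterated images of a point -/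
def tx (k i : ℕ) : ℕ := Nat.rec i (fun _ ih => tl xw ih) k

theorem val_pow (k : ℕ) (i : Fin 100) : (((φ y40) ^ k) i : ℕ) = tx k i := by
  induction k with
  | zero => rfl
  | succ k ih =>
    rw [pow_succ', Perm.mul_apply, y40, φ_hw_apply, ← y40, ih]
    rfl

theorem chk8 : tx 8 1 ≠ 1 := by decide +kernel

theorem orderOf_y : orderOf y40 = 40 := by
  refine orderOf_eq_of_pow_and_pow_div_prime (by norm_num) y_pow_40 fun p hp hd => ?_
  have h1 : p ∈ (40 : ℕ).primeFactors := Nat.mem_primeFactors.2 ⟨hp, hd, by norm_num⟩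
  have h2 : (40 : ℕ).primeFactors = {2, 5} := by decide +kernel
  rw [h2, Finset.mem_insert, Finset.mem_singleton] at h1
  rcases h1 with rfl | rfl
  · rw [show 40 / 2 = 20 from rfl, y_pow_20]
    exact τ_ne_one
  · rw [show 40 / 5 = 8 from rfl]
    intro h
    apply chk8
    have h3 := val_pow 8 1
    rw [← map_pow, h, map_one φ, Perm.one_apply] at h3
    exact h3.symm

/-! ### Conjugations -/

theorem conj_of_eqw {g : List ℕ} {m n : ℕ} (h : eqw (g ++ (pw m ++ iw g)) (pw n) = true) :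
    hw g * y40 ^ m * (hw g)⁻¹ = y40 ^ n := by
  rw [← hw_pw, ← hw_pw, ← hw_iw, mul_assoc, ← hw_append, ← hw_append]
  exact hw_eq h

theorem c23 : ∃ g : H0, g * y40 ^ 1 * g⁻¹ = y40 ^ 23 :=
  ⟨_, conj_of_eqw (g := [2, 1, 3, 3, 0, 2, 2, 2, 0, 2, 0, 2]) (by decide +kernel)⟩

theorem c11 : ∃ g : H0, g * y40 ^ 1 * g⁻¹ = y40 ^ 11 :=
  ⟨_, conj_of_eqw (g := [3, 3, 0]) (by decide +kernel)⟩

theorem c25 : ∃ g : H0, g * y40 ^ 25 * g⁻¹ = y40 ^ 5 :=
  ⟨_, conj_of_eqw (g := [3, 1, 2, 2, 2, 0, 2, 2, 2, 0, 3, 3]) (by decide +kernel)⟩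

/-! ### The centralizer -/

theorem chk_adj : bitM 100 adjA 1 (tx 1 1) = 1 := by decide +kernel
theorem chk_adj' : ∀ v < 100, bitM 100 adjA v (tx 1 v) = 1 → ∃ k < 20, v = tx k 1 := by decide +kernel

def L0 : List ℕ := List.map (fun k => tx k 1) (List.range 20)

theorem chk_L0 : ∀ i ∈ L0, i < 100 ∧ ∃ k < 20, i = tx k 1 := by decide +kernel
theorem chkU0 : chkU L0 (List.range 100) = true := by decide +kernel

section

variable {g : Perm (Fin 100)} (hg : g ∈ autG 100 adjA) (hc : g * φ y40 = φ y40 * g)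

include hc in
theorem map_pow' (k : ℕ) (i : Fin 100) : g (((φ y40) ^ k) i) = ((φ y40) ^ k) (g i) := by
  have h : g * (φ y40) ^ k = (φ y40) ^ k * g := (Commute.pow_right (show Commute g (φ y40) from hc) k)
  rw [← Perm.mul_apply, h, Perm.mul_apply]

include hg hc in
theorem g_one : ∃ k < 20, g 1 = ((φ y40) ^ k) 1 := by
  have h1 := mem_autG.1 hg 1 (((φ y40) ^ 1) 1)
  rw [map_pow' hc, val_pow, val_pow] at h1
  obtain ⟨k, hk, h⟩ := chk_adj' (g 1) (g 1).2 (by rw [h1]; exact chk_adj)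
  refine ⟨k, hk, Fin.ext ?_⟩
  rw [h, val_pow]
  rfl

include hg hc in
theorem eq_one_of_fix (h1 : g 1 = 1) : g = 1 := by
  have h0 : Fixes g L0 := by
    intro i hi
    obtain ⟨hi', k, hk, rfl⟩ := chk_L0 i hi
    refine ⟨hi', ?_⟩
    have e : (⟨tx k 1, hi'⟩ : Fin 100) = ((φ y40) ^ k) 1 := Fin.ext (by rw [val_pow]; rfl)
    rw [e, map_pow' hc, h1]
  have h2 := h0.step hg chkU0 (by simp)
  ext i
  obtain ⟨_, h⟩ := h2 i (by simp)
  exact congrArg Fin.val h

end

/-- **The centraliser of `y40`** -/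
theorem mem_of_comm {u : H0} (h : u * y40 = y40 * u) : ∃ k < 20, u = y40 ^ k ∨ u = y40 ^ k * τ := by
  have hc : φ u * φ y40 = φ y40 * φ u := by rw [← map_mul, h, map_mul]
  have hg : φ u ∈ autG 100 adjA := range_le ⟨u, rfl⟩
  obtain ⟨k, hk, hk'⟩ := g_one hg hc
  have hc2 : φ ((y40 ^ k)⁻¹ * u) * φ y40 = φ y40 * φ ((y40 ^ k)⁻¹ * u) := by
    rw [← map_mul, ← map_mul]
    congr 1
    have h1 : Commute y40 u := h.symm
    have h2 : Commute y40 ((y40 ^ k)⁻¹) := (Commute.refl y40).pow_right k |>.inv_right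
    exact (h2.mul_right h1).eq.symm
  have hg2 : φ ((y40 ^ k)⁻¹ * u) ∈ autG 100 adjA := range_le ⟨_, rfl⟩
  have e : φ ((y40 ^ k)⁻¹ * u) 1 = ((φ y40) ^ k)⁻¹ (φ u 1) := by
    rw [map_mul, map_inv, map_pow, Perm.mul_apply]
  have h1 := eq_one_of_fix hg2 hc2 (by rw [e, hk']; exact Equiv.symm_apply_apply _ _)
  refine ⟨k, hk, ?_⟩
  rcases φ_eq_one_iff.1 h1 with h2 | h2
  · left; rw [inv_mul_eq_one] at h2; exact h2.symm
  · right; rw [inv_mul_eq_iff_eq_mul] at h2; exact h2

/-- `u y40 u⁻¹ = y40 τ` is impossible -/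
theorem not_conj_τ {u : H0} (h : u * y40 * u⁻¹ = y40 * τ) : False := by
  have h1 : φ u * φ y40 = φ y40 * φ u := by
    have h2 := congrArg φ h
    rw [map_mul, map_mul, map_mul, map_inv, φ_τ, mul_one] at h2
    exact mul_inv_eq_iff_eq_mul.1 h2
  have hg : φ u ∈ autG 100 adjA := range_le ⟨u, rfl⟩
  obtain ⟨k, hk, hk'⟩ := g_one hg h1
  have hc2 : φ ((y40 ^ k)⁻¹ * u) * φ y40 = φ y40 * φ ((y40 ^ k)⁻¹ * u) := by
    rw [map_mul, map_inv, map_pow]
    have h3 : Commute (φ y40) (φ u) := h1.symm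
    have h4 : Commute (φ y40) (((φ y40) ^ k)⁻¹) := (Commute.refl (φ y40)).pow_right k |>.inv_right
    exact (h4.mul_right h3).eq.symm
  have hg2 : φ ((y40 ^ k)⁻¹ * u) ∈ autG 100 adjA := range_le ⟨_, rfl⟩
  have e : φ ((y40 ^ k)⁻¹ * u) 1 = ((φ y40) ^ k)⁻¹ (φ u 1) := by
    rw [map_mul, map_inv, map_pow, Perm.mul_apply]
  have h5 := eq_one_of_fix hg2 hc2 (by rw [e, hk']; exact Equiv.symm_apply_apply _ _)
  have h6 : u * y40 = y40 * u := by
    rcases φ_eq_one_iff.1 h5 with h2 | h2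
    · rw [inv_mul_eq_one] at h2
      rw [← h2]
      exact ((Commute.refl y40).pow_left k).eq
    · rw [inv_mul_eq_iff_eq_mul] at h2
      rw [h2, mul_assoc, ← τ_comm y40, ← mul_assoc, ← mul_assoc]
      congr 1
      exact ((Commute.refl y40).pow_left k).eq
  rw [h6, mul_inv_cancel_right] at h
  exact τ_ne_one (mul_eq_left.1 h.symm)

end

end Cfsg.Agent.H546.VO.HNForty

private theorem dce_6c380db22167 : _root_.True := by
  try have : _root_.True := by simp only [_root_.Cfsg.Agent.H546.VO.HNForty.y40.eq_1]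
  exact _root_.True.intro
end
end
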